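import Cfsg.Agent.Transfer.Frobenius

/-!
A numerical criterion for an abelian Sylow subgroup to be central in its normalizer.
-/

namespace Cfsg.Agent.Transfer

open Subgroup

variable {G : Type*} [Group G]

/-- If no prime `q ≠ p` dividing `|G|` divides some `p ^ n - p ^ i` with `i < n`, where `p ^ n` is
the order of the abelian Sylow subgroup `P`, then `N_G(P) = C_G(P)`. -/
theorem normalizer_le_centralizer_of_forall_prime [Finite G] {p : ℕ} [hp : Fact p.Prime]
    (P : Sylow p G) (hP : IsMulCommutative P) {n : ℕ} (hn : Nat.card P = p ^ n)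
    (h : ∀ q : ℕ, q.Prime → q ∣ Nat.card G → q ≠ p → ∀ i < n, ¬ q ∣ p ^ n - p ^ i) :
    normalizer ((P : Subgroup G) : Set G) ≤ centralizer ((P : Subgroup G) : Set G) := by
  let N := normalizer ((P : Subgroup G) : Set G)
  let C := (centralizer ((P : Subgroup G) : Set G)).subgroupOf N
  suffices htop : C = ⊤ from subgroupOf_eq_top.mp htop
  rw [← index_eq_one]
  refine Nat.eq_one_iff_not_exists_prime_dvd.mpr fun q hq hdvd => ?_
  have : Fact q.Prime := ⟨hq⟩
  rcases eq_or_ne q p with rfl | hqp
  · exact (P.subtype (N := N) le_normalizer).not_dvd_index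
      (hdvd.trans (index_dvd_of_le fun x hx => P.le_centralizer hx))
  obtain ⟨R⟩ : Nonempty (Sylow q N) := inferInstance
  refine R.not_dvd_index (hdvd.trans (index_dvd_of_le ?_))
  let _ : MulAction R (P : Subgroup G) :=
    MulAction.compHom _ ((P : Subgroup G).normalizerMonoidHom.comp (R : Subgroup N).subtype)
  have hsmul : ∀ (r : R) (x : (P : Subgroup G)),
      ((r • x : (P : Subgroup G)) : G) = (r.1 : G) * (x : G) * (r.1 : G)⁻¹ := fun _ _ => rfl
  let F : Subgroup (P : Subgroup G) :=
    (centralizer (((R : Subgroup N).map N.subtype : Subgroup G) : Set G)).subgroupOf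
      (P : Subgroup G)
  have hF : ∀ x, x ∈ MulAction.fixedPoints R (P : Subgroup G) ↔ x ∈ F := by
    intro x
    refine ⟨fun hx => mem_centralizer_iff.mpr ?_, fun hx r => Subtype.ext ?_⟩
    · rintro - ⟨r, hr, rfl⟩
      have := congrArg Subtype.val (hx ⟨r, hr⟩)
      rw [hsmul] at this
      exact mul_inv_eq_iff_eq_mul.mp this
    · rw [hsmul]
      exact mul_inv_eq_iff_eq_mul.mpr (mem_centralizer_iff.mp hx _ ⟨r.1, r.2, rfl⟩)
  have hmod : Nat.card (P : Subgroup G) ≡ Nat.card F [MOD q] := by
    have := R.2.card_modEq_card_fixedPoints (α := (P : Subgroup G))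
    rwa [Nat.card_congr (Equiv.subtypeEquivRight hF)] at this
  obtain ⟨i, hi, hFi⟩ := (Nat.dvd_prime_pow hp.out).mp (hn ▸ card_subgroup_dvd_card F)
  intro r hr
  refine mem_centralizer_iff.mpr fun x hx => ?_
  have hFtop : F = ⊤ := by
    apply eq_top_of_card_eq
    rw [hFi, hn]
    by_contra hne
    have hlt : i < n := lt_of_le_of_ne hi fun he => hne (by rw [he])
    have hd : q ∣ Nat.card G :=
      hdvd.trans ((index_dvd_card C).trans (card_subgroup_dvd_card N))
    rw [hn, hFi] at hmod
    exact h q hq hd hqp i hlt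
      ((Nat.modEq_iff_dvd' (Nat.pow_le_pow_right hp.out.pos hi)).mp hmod.symm)
  have hxF : (⟨x, hx⟩ : (P : Subgroup G)) ∈ F := hFtop ▸ mem_top _
  exact (mem_centralizer_iff.mp hxF r ⟨r, hr, rfl⟩).symm

/-- Burnside's criterion in numerical form. -/
theorem hasNormalPComplement_of_forall_prime [Finite G] {p : ℕ} [hp : Fact p.Prime]
    (P : Sylow p G) (hP : IsMulCommutative P) {n : ℕ} (hn : Nat.card P = p ^ n)
    (h : ∀ q : ℕ, q.Prime → q ∣ Nat.card G → q ≠ p → ∀ i < n, ¬ q ∣ p ^ n - p ^ i) :
    Cfsg.HasNormalPComplement p G :=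
  hasNormalPComplement_of_normalizer_le_centralizer P
    (normalizer_le_centralizer_of_forall_prime P hP hn h)

end Cfsg.Agent.Transfer
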