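import Cfsg.Agent.PGroup.Extraspecial
import Mathlib.GroupTheory.NoncommCoprod
import Mathlib.Tactic.Ring
import Mathlib.Tactic.LinearCombination

/-!
Isomorphism classification of extraspecial groups by splitting off blocks of order `p^3`.
-/

namespace Cfsg.Agent.Transfer

open Subgroup
open scoped commutatorElement

universe u v

variable {p : ℕ} [hp : Fact p.Prime]

/-- A pair of elements with commutator the given generator of the centre. -/
structure IsBlock (p : ℕ) {E : Type*} [Group E] (x y z : E) : Prop where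
  mem : z ∈ center E
  ord : orderOf z = p
  comm : ⁅x, y⁆ = z

/-- The normal form `x^a y^b z^c`. -/
def blockWord {E : Type*} [Group E] (x y z : E) (t : ℤ × ℤ × ℤ) : E := x ^ t.1 * y ^ t.2.1 * z ^ t.2.2

/-- Composition of normal forms. -/
def blockMul (s t : ℤ × ℤ × ℤ) : ℤ × ℤ × ℤ :=
  (s.1 + t.1, s.2.1 + t.2.1, s.2.2 + t.2.2 - t.1 * s.2.1)

section One

variable {E : Type*} [Group E] [Finite E] {x y z : E}

theorem commutatorElement_zpow_left (hE : Cfsg.IsExtraspecial p E) (a b : E) (i : ℤ) :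
    ⁅a ^ i, b⁆ = ⁅a, b⁆ ^ i := by
  have := congrArg Subtype.val (map_zpow (PGroup.commutatorHomLeft hE.1.2.2.le b) a i)
  simpa [PGroup.commutatorHomLeft] using this

theorem commutatorElement_zpow_zpow (hE : Cfsg.IsExtraspecial p E) (a b : E) (i j : ℤ) :
    ⁅a ^ i, b ^ j⁆ = ⁅a, b⁆ ^ (i * j) := by
  rw [commutatorElement_zpow_left hE, mul_comm, zpow_mul, ← commutatorElement_inv,
    commutatorElement_zpow_left hE, ← commutatorElement_inv a b, inv_zpow (⁅a, b⁆) j, inv_inv]

variable (hE : Cfsg.IsExtraspecial p E) (hB : IsBlock p x y z)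
include hE hB

theorem block_center : center E = zpowers z :=
  PGroup.extraspecial_center_eq_zpowers hE hB.mem fun h => by
    have := hB.ord
    rw [h, orderOf_one] at this
    exact hp.out.one_lt.ne this

theorem block_zpow_swap (b d : ℤ) : y ^ b * x ^ d = x ^ d * y ^ b * z ^ (-(d * b)) := by
  have h := commutatorElement_zpow_zpow hE x y d b
  rw [hB.comm, commutatorElement_def] at h
  have hc : ∀ w : E, w * z ^ (d * b) = z ^ (d * b) * w :=
    mem_center_iff.mp (zpow_mem hB.mem _)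
  calc y ^ b * x ^ d = (z ^ (d * b))⁻¹ * (x ^ d * y ^ b) := by rw [← h]; group
    _ = _ := by
      rw [zpow_neg]
      exact (mem_center_iff.mp (inv_mem (zpow_mem hB.mem _)) _).symm

theorem blockWord_mul (s t : ℤ × ℤ × ℤ) :
    blockWord x y z s * blockWord x y z t = blockWord x y z (blockMul s t) := by
  obtain ⟨a, b, c⟩ := s
  obtain ⟨d, e, f⟩ := t
  simp only [blockWord, blockMul]
  have hz : ∀ (k : ℤ) (w : E), z ^ k * w = w * z ^ k := fun k w =>
    ((mem_center_iff.mp (zpow_mem hB.mem k)) w).symm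
  calc x ^ a * y ^ b * z ^ c * (x ^ d * y ^ e * z ^ f)
      = x ^ a * y ^ b * (z ^ c * (x ^ d * y ^ e)) * z ^ f := by simp [mul_assoc]
    _ = x ^ a * (y ^ b * x ^ d) * y ^ e * (z ^ c * z ^ f) := by rw [hz]; simp [mul_assoc]
    _ = x ^ a * x ^ d * y ^ b * (z ^ (-(d * b)) * y ^ e) * (z ^ c * z ^ f) := by
        rw [block_zpow_swap hE hB]; simp [mul_assoc]
    _ = x ^ a * x ^ d * (y ^ b * y ^ e) * (z ^ (-(d * b)) * (z ^ c * z ^ f)) := by
        rw [hz]; simp [mul_assoc]
    _ = _ := by rw [← zpow_add, ← zpow_add, ← zpow_add, ← zpow_add]; congr 2; ring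

theorem blockWord_inv (s : ℤ × ℤ × ℤ) :
    (blockWord x y z s)⁻¹ = blockWord x y z (-s.1, -s.2.1, -s.2.2 - s.1 * s.2.1) := by
  refine inv_eq_of_mul_eq_one_right ?_
  rw [blockWord_mul hE hB]
  simp only [blockMul, blockWord]
  rw [add_neg_cancel, add_neg_cancel,
    show s.2.2 + (-s.2.2 - s.1 * s.2.1) - -s.1 * s.2.1 = 0 by ring]
  simp

theorem commutator_blockWord (s : ℤ × ℤ × ℤ) :
    ⁅blockWord x y z s, y⁆ = z ^ s.1 ∧ ⁅blockWord x y z s, x⁆ = z ^ (-s.2.1) := by
  have hc := hE.1.2.2.le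
  have key : ∀ w : E, ⁅blockWord x y z s, w⁆ = ⁅x, w⁆ ^ s.1 * ⁅y, w⁆ ^ s.2.1 := by
    intro w
    have h1 : ⁅z ^ s.2.2, w⁆ = 1 := commutatorElement_eq_one_iff_mul_comm.mpr
      (mem_center_iff.mp (zpow_mem hB.mem _) w).symm
    rw [blockWord, PGroup.commutatorElement_mul_left (PGroup.commutatorElement_mem_center hc _ _),
      PGroup.commutatorElement_mul_left (PGroup.commutatorElement_mem_center hc _ _), h1, mul_one,
      commutatorElement_zpow_left hE, commutatorElement_zpow_left hE]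
  constructor
  · rw [key, hB.comm, commutatorElement_self, one_zpow, mul_one]
  · rw [key, commutatorElement_self, one_zpow, one_mul, ← commutatorElement_inv, hB.comm, zpow_neg,
      inv_zpow]

theorem zpow_eq_one_iff_dvd (k : ℤ) : z ^ k = 1 ↔ (p : ℤ) ∣ k := by
  rw [← orderOf_dvd_iff_zpow_eq_one, hB.ord]

theorem blockWord_eq_one_iff {α β : ℤ} (hx : x ^ p = z ^ α) (hy : y ^ p = z ^ β)
    (s : ℤ × ℤ × ℤ) : blockWord x y z s = 1 ↔
      (p : ℤ) ∣ s.1 ∧ (p : ℤ) ∣ s.2.1 ∧ (p : ℤ) ∣ α * (s.1 / p) + β * (s.2.1 / p) + s.2.2 := by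
  have key : (p : ℤ) ∣ s.1 → (p : ℤ) ∣ s.2.1 →
      blockWord x y z s = z ^ (α * (s.1 / p) + β * (s.2.1 / p) + s.2.2) := by
    intro ha hb
    have e1 : x ^ s.1 = z ^ (α * (s.1 / p)) := by
      rw [zpow_mul, ← hx, ← zpow_natCast, ← zpow_mul, Int.mul_ediv_cancel' ha]
    have e2 : y ^ s.2.1 = z ^ (β * (s.2.1 / p)) := by
      rw [zpow_mul, ← hy, ← zpow_natCast, ← zpow_mul, Int.mul_ediv_cancel' hb]
    rw [blockWord, e1, e2, ← zpow_add, ← zpow_add]
  constructor
  · intro h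
    obtain ⟨h1, h2⟩ := commutator_blockWord hE hB s
    rw [h, commutatorElement_one_left, eq_comm, zpow_eq_one_iff_dvd hE hB] at h1 h2
    rw [dvd_neg] at h2
    refine ⟨h1, h2, ?_⟩
    rw [← zpow_eq_one_iff_dvd hE hB, ← key h1 h2, h]
  · rintro ⟨ha, hb, hc⟩
    rw [key ha hb, zpow_eq_one_iff_dvd hE hB]
    exact hc

/-- The subgroup of normal forms. -/
def blockGroup : Subgroup E where
  carrier := Set.range (blockWord x y z)
  one_mem' := ⟨(0, 0, 0), by simp [blockWord]⟩
  mul_mem' := by rintro - - ⟨s, rfl⟩ ⟨t, rfl⟩; exact ⟨_, (blockWord_mul hE hB s t).symm⟩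
  inv_mem' := by rintro - ⟨s, rfl⟩; exact ⟨_, (blockWord_inv hE hB s).symm⟩

theorem mem_blockGroup_x : x ∈ blockGroup hE hB := ⟨(1, 0, 0), by simp [blockWord]⟩

theorem mem_blockGroup_y : y ∈ blockGroup hE hB := ⟨(0, 1, 0), by simp [blockWord]⟩

theorem center_le_blockGroup : center E ≤ blockGroup hE hB := by
  rw [block_center hE hB]
  rintro - ⟨k, rfl⟩
  exact ⟨(0, 0, k), by simp [blockWord]⟩

theorem centralizer_blockGroup :
    centralizer (blockGroup hE hB : Set E) = centralizer {x} ⊓ centralizer {y} := by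
  refine le_antisymm (le_inf ?_ ?_) ?_
  · exact centralizer_le (Set.singleton_subset_iff.mpr (mem_blockGroup_x hE hB))
  · exact centralizer_le (Set.singleton_subset_iff.mpr (mem_blockGroup_y hE hB))
  · intro g hg
    refine mem_centralizer_iff.mpr ?_
    rintro - ⟨s, rfl⟩
    have hxg : Commute g x := mem_centralizer_singleton_iff.mp hg.1
    have hyg : Commute g y := mem_centralizer_singleton_iff.mp hg.2
    have hzg : Commute g z := mem_center_iff.mp hB.mem g
    exact ((hxg.zpow_right _).mul_right (hyg.zpow_right _)).mul_right (hzg.zpow_right _) |>.symm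

theorem blockGroup_inf_centralizer :
    blockGroup hE hB ⊓ centralizer (blockGroup hE hB : Set E) = center E := by
  refine le_antisymm ?_ (le_inf (center_le_blockGroup hE hB) (center_le_centralizer _))
  intro g hg
  obtain ⟨⟨s, rfl⟩, hc⟩ := mem_inf.mp hg
  obtain ⟨h1, h2⟩ := commutator_blockWord hE hB s
  have e1 : ⁅blockWord x y z s, y⁆ = 1 := commutatorElement_eq_one_iff_mul_comm.mpr
    (mem_centralizer_iff.mp hc y (mem_blockGroup_y hE hB)).symm
  have e2 : ⁅blockWord x y z s, x⁆ = 1 := commutatorElement_eq_one_iff_mul_comm.mpr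
    (mem_centralizer_iff.mp hc x (mem_blockGroup_x hE hB)).symm
  rw [h1, zpow_eq_one_iff_dvd hE hB] at e1
  rw [h2, zpow_eq_one_iff_dvd hE hB, dvd_neg] at e2
  obtain ⟨i, hi⟩ := e1
  obtain ⟨j, hj⟩ := e2
  have hx := PGroup.special_pow_mem_center hE.1 x
  have hy := PGroup.special_pow_mem_center hE.1 y
  rw [blockWord, hi, hj, zpow_mul, zpow_mul, zpow_natCast, zpow_natCast]
  exact mul_mem (mul_mem (zpow_mem hx _) (zpow_mem hy _)) (zpow_mem hB.mem _)

theorem not_mem_center : x ∉ center E ∧ y ∉ center E := by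
  constructor <;> intro h <;> apply (show z ≠ 1 from fun h' => by
    have := hB.ord
    rw [h', orderOf_one] at this
    exact hp.out.one_lt.ne this)
  · rw [← hB.comm, commutatorElement_eq_one_iff_mul_comm]
    exact ((mem_center_iff.mp h) y).symm
  · rw [← hB.comm, commutatorElement_eq_one_iff_mul_comm]
    exact (mem_center_iff.mp h) x

theorem card_centralizer_blockGroup :
    Nat.card (centralizer (blockGroup hE hB : Set E)) * p ^ 2 = Nat.card E := by
  obtain ⟨hx, hy⟩ := not_mem_center hE hB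
  rw [centralizer_blockGroup hE hB]
  have ix := PGroup.extraspecial_index_centralizer hE hx
  have iy := PGroup.extraspecial_index_centralizer hE hy
  have hr : (centralizer {y}).relIndex (centralizer ({x} : Set E)) = p := by
    have hle : (centralizer {y}).relIndex (centralizer ({x} : Set E)) ≤ p := by
      rw [← iy, ← relIndex_top_right (centralizer ({y} : Set E))]
      exact relIndex_le_of_le_right le_top (by rw [relIndex_top_right, iy]; exact hp.out.ne_zero)
    obtain ⟨k, hk⟩ := (hE.1.1.to_subgroup (centralizer ({x} : Set E))).index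
      ((centralizer {y}).subgroupOf (centralizer ({x} : Set E)))
    rw [relIndex, hk] at hle ⊢
    have hk1 : k ≤ 1 := (Nat.pow_le_pow_iff_right hp.out.one_lt).mp (hle.trans (pow_one p).ge)
    have hk0 : k ≠ 0 := by
      rintro rfl
      rw [pow_zero, index_eq_one, subgroupOf_eq_top] at hk
      have hcomm : x * y = y * x := mem_centralizer_singleton_iff.mp
        (hk (mem_centralizer_singleton_iff.mpr rfl))
      have := hB.comm
      rw [commutatorElement_eq_one_iff_mul_comm.mpr hcomm] at this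
      exact absurd (hB.ord ▸ this ▸ orderOf_one) hp.out.ne_one
    rw [show k = 1 by omega, pow_one]
  have h2 : (centralizer {x} ⊓ centralizer ({y} : Set E)).index = p ^ 2 := by
    rw [← relIndex_mul_index (inf_le_left (a := centralizer ({x} : Set E))),
      inf_relIndex_left, hr, ix, sq]
  rw [← h2, card_mul_index]

theorem blockGroup_centralizer_extraspecial
    (hne : centralizer (blockGroup hE hB : Set E) ≠ center E) :
    Cfsg.IsExtraspecial p (centralizer (blockGroup hE hB : Set E)) := by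
  refine PGroup.extraspecial_subgroup hE (lt_of_le_of_ne (center_le_centralizer _) hne.symm) ?_
  rw [PGroup.extraspecial_centralizer_centralizer hE (center_le_blockGroup hE hB), inf_comm,
    blockGroup_inf_centralizer hE hB]

theorem blockGroup_sup_centralizer :
    blockGroup hE hB ⊔ centralizer (blockGroup hE hB : Set E) = ⊤ :=
  PGroup.extraspecial_sup_centralizer hE (center_le_blockGroup hE hB)
    (blockGroup_inf_centralizer hE hB)

theorem blockGroup_eq_top (hC : centralizer (blockGroup hE hB : Set E) = center E) :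
    blockGroup hE hB = ⊤ := by
  have := blockGroup_sup_centralizer hE hB
  rwa [hC, sup_eq_left.mpr (center_le_blockGroup hE hB)] at this

end One

section Two

variable {E₁ : Type u} {E₂ : Type v} [Group E₁] [Group E₂] [Finite E₁] [Finite E₂]
  {x₁ y₁ z₁ : E₁} {x₂ y₂ z₂ : E₂}

/-- The map between two block groups with the same power data. -/
theorem exists_blockHom (hE₁ : Cfsg.IsExtraspecial p E₁) (hB₁ : IsBlock p x₁ y₁ z₁)
    (hE₂ : Cfsg.IsExtraspecial p E₂) (hB₂ : IsBlock p x₂ y₂ z₂) {α β : ℤ}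
    (hx₁ : x₁ ^ p = z₁ ^ α) (hy₁ : y₁ ^ p = z₁ ^ β) (hx₂ : x₂ ^ p = z₂ ^ α)
    (hy₂ : y₂ ^ p = z₂ ^ β) :
    ∃ f : blockGroup hE₁ hB₁ →* E₂, Function.Injective f ∧
      ∀ s, f ⟨blockWord x₁ y₁ z₁ s, s, rfl⟩ = blockWord x₂ y₂ z₂ s := by
  classical
  have hiff : ∀ s t, blockWord x₁ y₁ z₁ s = blockWord x₁ y₁ z₁ t ↔
      blockWord x₂ y₂ z₂ s = blockWord x₂ y₂ z₂ t := fun s t => by
    rw [← inv_mul_eq_one (a := blockWord x₁ y₁ z₁ s), ← inv_mul_eq_one (a := blockWord x₂ y₂ z₂ s),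
      blockWord_inv hE₁ hB₁, blockWord_inv hE₂ hB₂, blockWord_mul hE₁ hB₁, blockWord_mul hE₂ hB₂,
      blockWord_eq_one_iff hE₁ hB₁ hx₁ hy₁, blockWord_eq_one_iff hE₂ hB₂ hx₂ hy₂]
  let c : blockGroup hE₁ hB₁ → ℤ × ℤ × ℤ := fun h => Classical.choose h.2
  have hc : ∀ h : blockGroup hE₁ hB₁, blockWord x₁ y₁ z₁ (c h) = h := fun h =>
    Classical.choose_spec h.2
  refine ⟨MonoidHom.mk' (fun h => blockWord x₂ y₂ z₂ (c h)) fun a b => ?_, fun a b hab => ?_,
    fun s => ?_⟩
  · rw [blockWord_mul hE₂ hB₂, ← hiff, ← blockWord_mul hE₁ hB₁, hc, hc, hc]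
    rfl
  · apply Subtype.ext
    rw [← hc a, ← hc b, hiff]
    exact hab
  · exact (hiff _ _).mp (hc ⟨blockWord x₁ y₁ z₁ s, s, rfl⟩)

theorem eq_zpow_of_mem_center (hE₁ : Cfsg.IsExtraspecial p E₁) (hB₁ : IsBlock p x₁ y₁ z₁) {c : E₁}
    (hc : c ∈ center E₁) : ∃ k : ℤ, c = z₁ ^ k := by
  rw [block_center hE₁ hB₁] at hc
  obtain ⟨k, rfl⟩ := hc
  exact ⟨k, rfl⟩

/-- Groups that are a single block with the same power data are isomorphic. -/
theorem block_iso_of_top (hE₁ : Cfsg.IsExtraspecial p E₁) (hB₁ : IsBlock p x₁ y₁ z₁)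
    (hE₂ : Cfsg.IsExtraspecial p E₂) (hB₂ : IsBlock p x₂ y₂ z₂) {α β : ℤ}
    (hx₁ : x₁ ^ p = z₁ ^ α) (hy₁ : y₁ ^ p = z₁ ^ β) (hx₂ : x₂ ^ p = z₂ ^ α)
    (hy₂ : y₂ ^ p = z₂ ^ β) (hcard : Nat.card E₁ = Nat.card E₂)
    (hC : centralizer (blockGroup hE₁ hB₁ : Set E₁) = center E₁) :
    ∃ φ : E₁ ≃* E₂, φ z₁ = z₂ := by
  obtain ⟨f, hf, hfw⟩ := exists_blockHom hE₁ hB₁ hE₂ hB₂ hx₁ hy₁ hx₂ hy₂
  have htop := blockGroup_eq_top hE₁ hB₁ hC
  let g : E₁ →* E₂ := f.comp
    (MonoidHom.codRestrict (MonoidHom.id E₁) (blockGroup hE₁ hB₁) fun a => htop ▸ mem_top a)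
  have hg : Function.Injective g := fun a b h => congrArg Subtype.val (hf h)
  refine ⟨MulEquiv.ofBijective g ((Nat.bijective_iff_injective_and_card g).mpr ⟨hg, hcard⟩), ?_⟩
  have h := hfw (0, 0, 1)
  simp only [blockWord, zpow_zero, one_mul, zpow_one] at h
  exact (congrArg f (Subtype.ext (by simp))).trans h

/-- Gluing an isomorphism of the centralizers of two blocks. -/
theorem block_glue (hE₁ : Cfsg.IsExtraspecial p E₁) (hB₁ : IsBlock p x₁ y₁ z₁)
    (hE₂ : Cfsg.IsExtraspecial p E₂) (hB₂ : IsBlock p x₂ y₂ z₂) {α β : ℤ}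
    (hx₁ : x₁ ^ p = z₁ ^ α) (hy₁ : y₁ ^ p = z₁ ^ β) (hx₂ : x₂ ^ p = z₂ ^ α)
    (hy₂ : y₂ ^ p = z₂ ^ β) (hcard : Nat.card E₁ = Nat.card E₂)
    (e : centralizer (blockGroup hE₁ hB₁ : Set E₁) ≃* centralizer (blockGroup hE₂ hB₂ : Set E₂))
    (he : (e ⟨z₁, center_le_centralizer _ hB₁.mem⟩ : E₂) = z₂) :
    ∃ φ : E₁ ≃* E₂, φ z₁ = z₂ := by
  obtain ⟨f, -, hfw⟩ := exists_blockHom hE₁ hB₁ hE₂ hB₂ hx₁ hy₁ hx₂ hy₂
  let H := blockGroup hE₁ hB₁
  let C := centralizer (H : Set E₁)
  let π : H × C →* E₁ := H.subtype.noncommCoprod C.subtype fun h c =>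
    mem_centralizer_iff.mp c.2 h h.2
  have hfH : ∀ h : H, f h ∈ blockGroup hE₂ hB₂ := by
    rintro ⟨_, s, rfl⟩
    exact ⟨s, (hfw s).symm⟩
  let k : C →* E₂ := (Subgroup.subtype _).comp e.toMonoidHom
  let F : H × C →* E₂ := f.noncommCoprod k fun h c =>
    mem_centralizer_iff.mp (e c).2 _ (hfH h)
  have hπ : Function.Surjective π := by
    intro g
    have hg : g ∈ C ⊔ H := by
      rw [sup_comm, blockGroup_sup_centralizer hE₁ hB₁]
      exact mem_top g
    haveI : C.Normal := PGroup.normal_of_commutator_le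
      (hE₁.1.2.2.le.trans (center_le_centralizer _))
    obtain ⟨c, hc, h, hh, rfl⟩ := mem_sup_of_normal_left.mp hg
    exact ⟨(⟨h, hh⟩, ⟨c, hc⟩), mem_centralizer_iff.mp hc h hh⟩
  have hker : π.ker ≤ F.ker := by
    rintro ⟨⟨h, hh⟩, ⟨c, hc⟩⟩ hhc
    have hhc' : h * c = 1 := hhc
    obtain rfl : c = h⁻¹ := eq_inv_of_mul_eq_one_right hhc'
    have hcen : h ∈ center E₁ := blockGroup_inf_centralizer hE₁ hB₁ ▸
      mem_inf.mpr ⟨hh, inv_mem_iff.mp hc⟩
    obtain ⟨i, rfl⟩ := eq_zpow_of_mem_center hE₁ hB₁ hcen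
    show f ⟨z₁ ^ i, hh⟩ * (e ⟨(z₁ ^ i)⁻¹, hc⟩ : E₂) = 1
    have h1 := hfw (0, 0, i)
    simp only [blockWord, zpow_zero, one_mul] at h1
    rw [show (⟨(z₁ ^ i)⁻¹, hc⟩ : C) = (⟨z₁, center_le_centralizer _ hB₁.mem⟩ : C) ^ (-i) from
      Subtype.ext (by simp), map_zpow, SubgroupClass.coe_zpow, he,
      show f ⟨z₁ ^ i, hh⟩ = z₂ ^ i from (congrArg f (Subtype.ext (by simp))).trans h1, zpow_neg,
      mul_inv_cancel]
  let ψ := π.liftOfSurjective hπ ⟨F, hker⟩
  have hψ : ∀ q, ψ (π q) = F q := fun q =>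
    MonoidHom.liftOfRightInverse_comp_apply π _ _ ⟨F, hker⟩ q
  have hsurj : Function.Surjective ψ := by
    intro g
    have hg : g ∈ ψ.range := by
      refine (?_ : ⊤ ≤ ψ.range) (mem_top g)
      rw [← blockGroup_sup_centralizer hE₂ hB₂]
      refine sup_le ?_ fun c hc => ?_
      · rintro - ⟨s, rfl⟩
        refine ⟨π (⟨_, s, rfl⟩, 1), (hψ _).trans ?_⟩
        show f ⟨_, s, rfl⟩ * k 1 = _
        rw [map_one, mul_one]
        exact hfw s
      · refine ⟨π (1, e.symm ⟨c, hc⟩), (hψ _).trans ?_⟩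
        simp [F, k]
    exact hg
  refine ⟨MulEquiv.ofBijective ψ ((Nat.bijective_iff_surjective_and_card ψ).mpr ⟨hsurj, hcard⟩), ?_⟩
  show ψ z₁ = z₂
  have h2 : π (1, ⟨z₁, center_le_centralizer _ hB₁.mem⟩) = z₁ := one_mul z₁
  rw [← h2, hψ]
  show f 1 * (e _ : E₂) = z₂
  rw [map_one, one_mul]
  exact he

theorem card_centralizer_eq (hE₁ : Cfsg.IsExtraspecial p E₁) (hB₁ : IsBlock p x₁ y₁ z₁)
    (hE₂ : Cfsg.IsExtraspecial p E₂) (hB₂ : IsBlock p x₂ y₂ z₂)
    (hcard : Nat.card E₁ = Nat.card E₂) :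
    Nat.card (centralizer (blockGroup hE₁ hB₁ : Set E₁)) =
      Nat.card (centralizer (blockGroup hE₂ hB₂ : Set E₂)) :=
  Nat.eq_of_mul_eq_mul_right (pow_pos hp.out.pos 2)
    (by rw [card_centralizer_blockGroup, card_centralizer_blockGroup, hcard])

theorem centralizer_eq_center_of_card {E : Type*} [Group E] [Finite E] {x y z : E}
    (hE : Cfsg.IsExtraspecial p E) (hB : IsBlock p x y z)
    (h : Nat.card (centralizer (blockGroup hE hB : Set E)) = p) :
    centralizer (blockGroup hE hB : Set E) = center E :=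
  (eq_of_le_of_card_ge (center_le_centralizer _) (by rw [h, hE.2])).symm

end Two

theorem exists_block {E : Type*} [Group E] [Finite E] (hE : Cfsg.IsExtraspecial p E) {x z : E}
    (hx : x ∉ center E) (hz : z ∈ center E) (hzo : orderOf z = p) :
    ∃ y, IsBlock p x y z := by
  obtain ⟨y, hy⟩ : ∃ y : E, ⁅x, y⁆ ≠ 1 := by
    by_contra hcon
    simp only [not_exists, not_not] at hcon
    exact hx (mem_center_iff.mpr fun g =>
      (commutatorElement_eq_one_iff_mul_comm.mp (hcon g)).symm)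
  have hz1 : z ≠ 1 := fun h => hp.out.ne_one (by rw [← hzo, h, orderOf_one])
  have hc := PGroup.special_commutatorElement_mem hE.1 x y
  have hgen := PGroup.extraspecial_center_eq_zpowers hE hc hy
  rw [hgen] at hz
  obtain ⟨k, hk⟩ := hz
  refine ⟨y ^ k, ⟨?_, hzo, ?_⟩⟩
  · rw [hgen]; exact ⟨k, hk⟩
  · have := commutatorElement_zpow_zpow hE x y 1 k
    rw [zpow_one, one_mul] at this
    rw [this]
    exact hk

theorem exists_orderOf_center {E : Type*} [Group E] [Finite E] (hE : Cfsg.IsExtraspecial p E) :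
    ∃ z ∈ center E, orderOf z = p := by
  obtain ⟨z, hz⟩ := exists_prime_orderOf_dvd_card' (G := center E) p (by rw [hE.2])
  exact ⟨z, z.2, by rw [Subgroup.orderOf_coe, hz]⟩

/-- Extraspecial groups of exponent `p` and the same order are isomorphic, with any prescribed
generators of the centres corresponding. -/
theorem exists_equiv_of_exponent : ∀ (N : ℕ) (E₁ : Type u) (E₂ : Type v) [Group E₁] [Group E₂]
    [Finite E₁] [Finite E₂], Cfsg.IsExtraspecial p E₁ → Cfsg.IsExtraspecial p E₂ →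
    (∀ g : E₁, g ^ p = 1) → (∀ g : E₂, g ^ p = 1) → Nat.card E₁ = N → Nat.card E₂ = N →
    ∀ z₁ ∈ center E₁, ∀ z₂ ∈ center E₂, orderOf z₁ = p → orderOf z₂ = p →
      ∃ φ : E₁ ≃* E₂, φ z₁ = z₂ := by
  intro N
  induction N using Nat.strong_induction_on with
  | _ N ih =>
    intro E₁ E₂ _ _ _ _ h₁ h₂ e₁ e₂ c₁ c₂ z₁ hz₁ z₂ hz₂ o₁ o₂
    obtain ⟨x₁, hx₁⟩ := not_forall.mp fun h => PGroup.extraspecial_center_ne_top h₁
      ((eq_top_iff' _).mpr h)
    obtain ⟨x₂, hx₂⟩ := not_forall.mp fun h => PGroup.extraspecial_center_ne_top h₂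
      ((eq_top_iff' _).mpr h)
    obtain ⟨y₁, B₁⟩ := exists_block h₁ hx₁ hz₁ o₁
    obtain ⟨y₂, B₂⟩ := exists_block h₂ hx₂ hz₂ o₂
    have hcard := c₁.trans c₂.symm
    have hα₁ : x₁ ^ p = z₁ ^ (0 : ℤ) := by rw [e₁, zpow_zero]
    have hβ₁ : y₁ ^ p = z₁ ^ (0 : ℤ) := by rw [e₁, zpow_zero]
    have hα₂ : x₂ ^ p = z₂ ^ (0 : ℤ) := by rw [e₂, zpow_zero]
    have hβ₂ : y₂ ^ p = z₂ ^ (0 : ℤ) := by rw [e₂, zpow_zero]
    by_cases hC : centralizer (blockGroup h₁ B₁ : Set E₁) = center E₁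
    · exact block_iso_of_top h₁ B₁ h₂ B₂ hα₁ hβ₁ hα₂ hβ₂ hcard hC
    have hceq := card_centralizer_eq h₁ B₁ h₂ B₂ hcard
    have hC₂ : centralizer (blockGroup h₂ B₂ : Set E₂) ≠ center E₂ := fun h => hC
      (centralizer_eq_center_of_card h₁ B₁ (by rw [hceq, h, h₂.2]))
    have hlt : Nat.card (centralizer (blockGroup h₁ B₁ : Set E₁)) < N := by
      rw [← c₁, ← card_centralizer_blockGroup h₁ B₁]
      exact lt_mul_of_one_lt_right Nat.card_pos (Nat.one_lt_pow two_ne_zero hp.out.one_lt)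
    obtain ⟨e, he⟩ := ih _ hlt _ _ (blockGroup_centralizer_extraspecial h₁ B₁ hC)
      (blockGroup_centralizer_extraspecial h₂ B₂ hC₂)
      (fun g => Subtype.ext (by simpa using e₁ g)) (fun g => Subtype.ext (by simpa using e₂ g))
      rfl hceq.symm ⟨z₁, center_le_centralizer _ hz₁⟩
      (mem_center_iff.mpr fun g => Subtype.ext (mem_center_iff.mp hz₁ g))
      ⟨z₂, center_le_centralizer _ hz₂⟩
      (mem_center_iff.mpr fun g => Subtype.ext (mem_center_iff.mp hz₂ g))
      (by rwa [← Subgroup.orderOf_coe]) (by rwa [← Subgroup.orderOf_coe])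
    exact block_glue h₁ B₁ h₂ B₂ hα₁ hβ₁ hα₂ hβ₂ hcard e (congrArg Subtype.val he)

section PTwo

variable {E : Type*} [Group E] [Finite E]

/-- An extraspecial 2-group either has a dihedral block, or has a quaternion block with trivial
complement. -/
theorem exists_two_block (hE : Cfsg.IsExtraspecial 2 E) :
    ∃ x y z : E, ∃ hB : IsBlock 2 x y z,
      (x ^ 2 = z ^ (0 : ℤ) ∧ y ^ 2 = z ^ (0 : ℤ)) ∨
      (x ^ 2 = z ^ (1 : ℤ) ∧ y ^ 2 = z ^ (1 : ℤ) ∧
        centralizer (blockGroup hE hB : Set E) = center E) := by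
  obtain ⟨z, hz, hzo⟩ := exists_orderOf_center hE
  have hcz : center E = zpowers z := PGroup.extraspecial_center_eq_zpowers hE hz fun h => by
    rw [h, orderOf_one] at hzo
    exact absurd hzo (by omega)
  have hzz : z * z = 1 := by rw [← sq, ← hzo, pow_orderOf_eq_one]
  have hsq : ∀ g : E, g ^ 2 = 1 ∨ g ^ 2 = z := by
    intro g
    have hg := PGroup.special_pow_mem_center hE.1 g
    rw [hcz] at hg
    obtain ⟨k, hk⟩ := hg
    rcases Int.even_or_odd k with ⟨m, rfl⟩ | ⟨m, rfl⟩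
    · left
      rw [← hk]
      show z ^ (m + m) = 1
      rw [zpow_add, ← (Commute.refl z).mul_zpow, hzz, one_zpow]
    · right
      rw [← hk]
      show z ^ (2 * m + 1) = z
      rw [zpow_add, zpow_one, zpow_mul, zpow_two, hzz, one_zpow, one_mul]
  have hdih : (∃ s, s ∉ center E ∧ s ^ 2 = 1) →
      ∃ x y : E, IsBlock 2 x y z ∧ x ^ 2 = z ^ (0 : ℤ) ∧ y ^ 2 = z ^ (0 : ℤ) := by
    rintro ⟨s, hs, hs2⟩
    obtain ⟨t, hB⟩ := exists_block hE hs hz hzo
    rcases hsq t with ht | ht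
    · exact ⟨s, t, hB, by rw [hs2, zpow_zero], by rw [ht, zpow_zero]⟩
    · refine ⟨s, s * t, ⟨hz, hzo, ?_⟩, by rw [hs2, zpow_zero], ?_⟩
      · rw [PGroup.commutatorElement_mul_right (PGroup.special_commutatorElement_mem hE.1 s t),
          commutatorElement_self, one_mul, hB.comm]
      · have hts : ⁅t, s⁆ = z := by
          rw [← commutatorElement_inv, hB.comm]
          exact inv_eq_of_mul_eq_one_right hzz
        rw [PGroup.mul_pow_of_commutatorElement (by rw [hts]; exact hz), hs2, ht, hts, one_mul,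
          Nat.choose_self, pow_one, hzz, zpow_zero]
  by_cases hs : ∃ s, s ∉ center E ∧ s ^ 2 = 1
  · obtain ⟨x, y, hB, h1, h2⟩ := hdih hs
    exact ⟨x, y, z, hB, Or.inl ⟨h1, h2⟩⟩
  obtain ⟨x, hx⟩ := not_forall.mp fun h => PGroup.extraspecial_center_ne_top hE
    ((eq_top_iff' _).mpr h)
  obtain ⟨y, hB⟩ := exists_block hE hx hz hzo
  obtain ⟨hxc, hyc⟩ := not_mem_center hE hB
  have hx2 : x ^ 2 = z := (hsq x).resolve_left fun h => hs ⟨x, hxc, h⟩
  have hy2 : y ^ 2 = z := (hsq y).resolve_left fun h => hs ⟨y, hyc, h⟩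
  refine ⟨x, y, z, hB, Or.inr ⟨by rw [hx2, zpow_one], by rw [hy2, zpow_one], ?_⟩⟩
  refine le_antisymm (fun u hu => ?_) (center_le_centralizer _)
  by_contra huc
  have hu2 : u ^ 2 = z := (hsq u).resolve_left fun h => hs ⟨u, huc, h⟩
  have hxu : Commute x u := mem_centralizer_iff.mp hu x (mem_blockGroup_x hE hB)
  refine hs ⟨x * u, fun h => hxc ?_, by rw [hxu.mul_pow, hx2, hu2, hzz]⟩
  have hxC : x ∈ centralizer (blockGroup hE hB : Set E) := by
    have := mul_mem (center_le_centralizer _ h) (inv_mem hu)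
    simpa using this
  exact blockGroup_inf_centralizer hE hB ▸ mem_inf.mpr ⟨mem_blockGroup_x hE hB, hxC⟩

end PTwo

theorem map_center_generator {E₁ E₂ : Type*} [Group E₁] [Group E₂] [Finite E₁] [Finite E₂]
    (h₂ : Cfsg.IsExtraspecial 2 E₂) (e : E₁ ≃* E₂) {z₁ : E₁} {z₂ : E₂} (hz₁ : z₁ ∈ center E₁)
    (hz₂ : z₂ ∈ center E₂) (o₁ : orderOf z₁ = 2) (o₂ : orderOf z₂ = 2) : e z₁ = z₂ := by
  have he : e z₁ ∈ center E₂ := mem_center_iff.mpr fun g => by
    obtain ⟨h, rfl⟩ := e.surjective g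
    rw [← map_mul, ← map_mul, mem_center_iff.mp hz₁ h]
  obtain ⟨a, b, hab, huniv⟩ := Nat.card_eq_two_iff.mp h₂.2
  have hmem : ∀ q : center E₂, q = a ∨ q = b := fun q => by
    have : q ∈ ({a, b} : Set (center E₂)) := huniv ▸ Set.mem_univ q
    simpa using this
  have h1 : (1 : center E₂) ≠ ⟨z₂, hz₂⟩ := fun h => by
    have h' : (1 : E₂) = z₂ := congrArg Subtype.val h
    rw [← h', orderOf_one] at o₂
    omega
  have h2 : (1 : center E₂) ≠ ⟨e z₁, he⟩ := fun h => by
    have : e z₁ = 1 := (congrArg Subtype.val h).symm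
    rw [e.map_eq_one_iff] at this
    rw [this, orderOf_one] at o₁
    omega
  have : (⟨e z₁, he⟩ : center E₂) = ⟨z₂, hz₂⟩ := by
    rcases hmem 1 with c | c <;> rcases hmem ⟨z₂, hz₂⟩ with d | d <;>
      rcases hmem ⟨e z₁, he⟩ with f | f <;>
      first
        | exact f.trans d.symm
        | exact absurd (c.trans d.symm) h1
        | exact absurd (c.trans f.symm) h2
  exact congrArg Subtype.val this

universe w

/-- Among three extraspecial 2-groups of equal order, two are isomorphic. -/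
theorem two_of_three_iso : ∀ (N : ℕ) (A : Type u) (B : Type v) (C : Type w) [Group A] [Group B]
    [Group C] [Finite A] [Finite B] [Finite C], Cfsg.IsExtraspecial 2 A →
    Cfsg.IsExtraspecial 2 B → Cfsg.IsExtraspecial 2 C → Nat.card A = N → Nat.card B = N →
    Nat.card C = N → Nonempty (A ≃* B) ∨ Nonempty (B ≃* C) ∨ Nonempty (A ≃* C) := by
  intro N
  induction N using Nat.strong_induction_on with
  | _ N ih =>
    intro A B C _ _ _ _ _ _ hA hB hC cA cB cC
    obtain ⟨a, b, c, kA, dA⟩ := exists_two_block hA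
    obtain ⟨a', b', c', kB, dB⟩ := exists_two_block hB
    obtain ⟨a'', b'', c'', kC, dC⟩ := exists_two_block hC
    have hAB := cA.trans cB.symm
    have hBC := cB.trans cC.symm
    have hAC := cA.trans cC.symm
    have nAB := card_centralizer_eq hA kA hB kB hAB
    have nBC := card_centralizer_eq hB kB hC kC hBC
    by_cases hsmall : centralizer (blockGroup hA kA : Set A) = center A
    · have n2 : Nat.card (centralizer (blockGroup hA kA : Set A)) = 2 := by rw [hsmall, hA.2]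
      have sB := centralizer_eq_center_of_card hB kB (nAB.symm.trans n2)
      rcases dA with ⟨p1, p2⟩ | ⟨p1, p2, -⟩ <;> rcases dB with ⟨q1, q2⟩ | ⟨q1, q2, -⟩ <;>
        rcases dC with ⟨r1, r2⟩ | ⟨r1, r2, -⟩ <;>
        first
          | exact Or.inl ⟨(block_iso_of_top hA kA hB kB p1 p2 q1 q2 hAB hsmall).choose⟩
          | exact Or.inr (Or.inl ⟨(block_iso_of_top hB kB hC kC q1 q2 r1 r2 hBC sB).choose⟩)
          | exact Or.inr (Or.inr ⟨(block_iso_of_top hA kA hC kC p1 p2 r1 r2 hAC hsmall).choose⟩)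
    have bigB : centralizer (blockGroup hB kB : Set B) ≠ center B := fun h => hsmall
      (centralizer_eq_center_of_card hA kA (by rw [nAB, h, hB.2]))
    have bigC : centralizer (blockGroup hC kC : Set C) ≠ center C := fun h => bigB
      (centralizer_eq_center_of_card hB kB (by rw [nBC, h, hC.2]))
    obtain ⟨p1, p2⟩ := dA.resolve_right fun h => hsmall h.2.2
    obtain ⟨q1, q2⟩ := dB.resolve_right fun h => bigB h.2.2
    obtain ⟨r1, r2⟩ := dC.resolve_right fun h => bigC h.2.2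
    have eA := blockGroup_centralizer_extraspecial hA kA hsmall
    have eB := blockGroup_centralizer_extraspecial hB kB bigB
    have eC := blockGroup_centralizer_extraspecial hC kC bigC
    have hlt : Nat.card (centralizer (blockGroup hA kA : Set A)) < N := by
      rw [← cA, ← card_centralizer_blockGroup hA kA]
      exact lt_mul_of_one_lt_right Nat.card_pos (by norm_num)
    rcases ih _ hlt _ _ _ eA eB eC rfl nAB.symm (nAB.trans nBC).symm with he | he | he <;>
      obtain ⟨e⟩ := he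
    · obtain ⟨φ, -⟩ := block_glue hA kA hB kB p1 p2 q1 q2 hAB e (congrArg Subtype.val
        (map_center_generator eB e (z₂ := ⟨c', center_le_centralizer _ kB.mem⟩)
          (mem_center_iff.mpr fun g => Subtype.ext (mem_center_iff.mp kA.mem g))
          (mem_center_iff.mpr fun g => Subtype.ext (mem_center_iff.mp kB.mem g))
          (by rw [← Subgroup.orderOf_coe]; exact kA.ord)
          (by rw [← Subgroup.orderOf_coe]; exact kB.ord)))
      exact Or.inl ⟨φ⟩
    · obtain ⟨φ, -⟩ := block_glue hB kB hC kC q1 q2 r1 r2 hBC e (congrArg Subtype.val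
        (map_center_generator eC e (z₂ := ⟨c'', center_le_centralizer _ kC.mem⟩)
          (mem_center_iff.mpr fun g => Subtype.ext (mem_center_iff.mp kB.mem g))
          (mem_center_iff.mpr fun g => Subtype.ext (mem_center_iff.mp kC.mem g))
          (by rw [← Subgroup.orderOf_coe]; exact kB.ord)
          (by rw [← Subgroup.orderOf_coe]; exact kC.ord)))
      exact Or.inr (Or.inl ⟨φ⟩)
    · obtain ⟨φ, -⟩ := block_glue hA kA hC kC p1 p2 r1 r2 hAC e (congrArg Subtype.val
        (map_center_generator eC e (z₂ := ⟨c'', center_le_centralizer _ kC.mem⟩)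
          (mem_center_iff.mpr fun g => Subtype.ext (mem_center_iff.mp kA.mem g))
          (mem_center_iff.mpr fun g => Subtype.ext (mem_center_iff.mp kC.mem g))
          (by rw [← Subgroup.orderOf_coe]; exact kA.ord)
          (by rw [← Subgroup.orderOf_coe]; exact kC.ord)))
      exact Or.inr (Or.inr ⟨φ⟩)

end Cfsg.Agent.Transfer
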